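import Cfsg.Agent.Helper29.OC2K.Defs
import Cfsg.Agent.Helper29.OC2K.CMP1
import Cfsg.Agent.Helper29.OC2K.CMP2
import Cfsg.Agent.Helper29.OC2K.STAB
import Cfsg.Agent.Helper29.OC2K.BLK
import Cfsg.Agent.Helper29.OC2K.GP
import Cfsg.Agent.Helper29.OC2K.RADT
import Cfsg.Agent.Helper29.OC2K.SIEGMEM
import Cfsg.Agent.Helper29.OC2K.REFLMEM

set_option autoImplicit false
set_option linter.unusedSectionVars false
set_option linter.unusedVariables false

/-! # S5694 chapter CHAR2, sub-chapter `q = 2`, blocks of Witt index 1 (`k = 4`) (driver helper3, after helper17's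
paper proof `departures/helper17_char2_q2k4.md`): definitions and the `F_2` arithmetic.

Vocabulary = helper29's `Cfsg.Agent.OC2K` (`HD`, `HS`, `G1`, `NPV`, `Rad`, `cmp`, `Tu`). -/

namespace Cfsg.Agent.OC2K

open Matrix Cfsg.Agent.Helper28.Sg Cfsg.Agent.Helper28.Spin Cfsg.Agent.Helper12.OrthGen
  Cfsg.Agent.S2614 Cfsg.Agent.S5683P Cfsg.Agent.Helper28.NDM

variable {F : Type*} [Field F] {t k : ℕ} {ι : Type} [Fintype ι] [DecidableEq ι] {Q : QuadraticForm F (ι → F)}
  {D : Fin t → Submodule F (ι → F)}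

/-- the field has two elements -/
def Q2.IsF2 (F : Type*) [Field F] : Prop := ∀ x : F, x = 0 ∨ x = 1

/-- no block contains a totally singular 2-space (Witt index `≤ 1`) -/
def Q2.W1 (Q : QuadraticForm F (ι → F)) (D : Fin t → Submodule F (ι → F)) : Prop :=
  ∀ c, ∀ x ∈ D c, ∀ x' ∈ D c, Q x = 0 → Q x' = 0 → B Q x x' = 0 → x ≠ 0 → ∃ s : F, x' = s • x

theorem Q2.eq_one (hF : Q2.IsF2 F) {x : F} (hx : x ≠ 0) : x = 1 := (hF x).resolve_left hx

theorem Q2.two_eq_zero (hF : Q2.IsF2 F) : (2 : F) = 0 := by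
  rcases hF 2 with h | h
  · exact h
  · exfalso
    have h1 : (1 : F) + 1 = 1 := by rw [one_add_one_eq_two]; exact h
    exact one_ne_zero (α := F) (by linear_combination h1)

theorem Q2.add_self (hF : Q2.IsF2 F) (x : F) : x + x = 0 := by
  have h := Q2.two_eq_zero hF
  linear_combination x * h

theorem Q2.neg_eq (hF : Q2.IsF2 F) (x : F) : -x = x := by
  have h := Q2.add_self hF x
  linear_combination -h

theorem Q2.vadd_self (hF : Q2.IsF2 F) (x : ι → F) : x + x = 0 := by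
  funext i
  exact Q2.add_self hF (x i)

theorem Q2.vneg_eq (hF : Q2.IsF2 F) (x : ι → F) : -x = x := by
  funext i
  exact Q2.neg_eq hF (x i)

theorem Q2.vsub_eq (hF : Q2.IsF2 F) (x y : ι → F) : x - y = x + y := by
  rw [sub_eq_add_neg, Q2.vneg_eq hF]

theorem Q2.B_self_zero (hF : Q2.IsF2 F) (x : ι → F) : B Q x x = 0 := by
  rw [Cfsg.Agent.Helper28.Sg.B_self, Q2.two_eq_zero hF, zero_mul]

/-- over `F_2` a nonsingular vector has norm `1` -/
theorem Q2.Q_eq_one (hF : Q2.IsF2 F) {x : ι → F} (hx : Q x ≠ 0) : Q x = 1 := Q2.eq_one hF hx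

end Cfsg.Agent.OC2K
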